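/-
Two categories that are finitely accessible over the same category of finitely presentable objects
are equivalent (Ind-completion uniqueness), via the restricted Yoneda embedding.
-/
import Mathlib.CategoryTheory.Presentable.Finite
import Mathlib.CategoryTheory.EssentialImage
import Mathlib.CategoryTheory.Limits.FunctorCategory.Basic
import Mathlib.CategoryTheory.Limits.Types.Filtered

set_option autoImplicit false
set_option linter.style.haveILetI false

universe u u₁ u₂ u₃

namespace Groth.Agent.DenseExt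

open CategoryTheory Limits Opposite

variable {A : Type u₁} [Category.{u} A] {C : Type u₂} [Category.{u} C]
  {D : Type u₃} [Category.{u} D]

/-- `i : A ⥤ C` exhibits `C` as generated under small filtered colimits by finitely presentable
objects coming from `A`. -/
structure IsAcc (i : A ⥤ C) : Prop where
  fp : ∀ a, IsFinitelyPresentable.{u} (i.obj a)
  pres : ∀ M : C, ∃ (J : Type u) (_ : SmallCategory J) (_ : IsFiltered J) (Dg : J ⥤ A)
    (ι : Dg ⋙ i ⟶ (Functor.const J).obj M), Nonempty (IsColimit (Cocone.mk M ι))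

/-- restricted Yoneda along `i` -/
def N (i : A ⥤ C) : C ⥤ Aᵒᵖ ⥤ Type u := yoneda ⋙ (Functor.whiskeringLeft _ _ _).obj i.op

@[simp] lemma N_obj_obj (i : A ⥤ C) (M : C) (a : Aᵒᵖ) : ((N i).obj M).obj a = (i.obj a.unop ⟶ M) :=
  rfl

/-- `N i` restricted to `A` is the Yoneda embedding -/
noncomputable def compN (i : A ⥤ C) [i.Full] [i.Faithful] : i ⋙ N i ≅ yoneda :=
  NatIso.ofComponents (fun a => NatIso.ofComponents
    (fun b => ((Functor.FullyFaithful.ofFullyFaithful i).homEquiv (X := b.unop) (Y := a)).symm.toIso)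
    (fun {b b'} f => by
      ext (φ : i.obj b.unop ⟶ i.obj a)
      refine i.map_injective ?_
      change i.map (i.preimage (i.map f.unop ≫ φ)) = i.map (f.unop ≫ i.preimage φ)
      simp))
    (fun {a a'} g => by
      ext b (φ : i.obj b.unop ⟶ i.obj a)
      refine i.map_injective ?_
      change i.map (i.preimage (φ ≫ i.map g)) = i.map (i.preimage φ ≫ g)
      simp)

variable {i : A ⥤ C}

lemma preservesColimit_N (hi : IsAcc i) {J : Type u} [SmallCategory J] [IsFiltered J] (K : J ⥤ C) :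
    PreservesColimit K (N i) :=
  preservesColimit_of_evaluation (N i) K fun a =>
    haveI := hi.fp a.unop
    (inferInstanceAs (PreservesColimit K (coyoneda.obj (op (i.obj a.unop)))))

lemma faithful_N (hi : IsAcc i) : (N i).Faithful := ⟨fun {M M'} f g h => by
  obtain ⟨J, _, _, Dg, ι, ⟨hc⟩⟩ := hi.pres M
  refine hc.hom_ext fun k => ?_
  exact ConcreteCategory.congr_hom (NatTrans.congr_app h (op (Dg.obj k))) (ι.app k)⟩

lemma full_N [i.Full] (hi : IsAcc i) : (N i).Full := ⟨fun {M M'} φ => by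
  obtain ⟨J, _, _, Dg, ι, ⟨hc⟩⟩ := hi.pres M
  have nat : ∀ {a b : A} (g : a ⟶ b) (x : i.obj b ⟶ M),
      φ.app (op a) (i.map g ≫ x) = i.map g ≫ φ.app (op b) x := fun g x => φ.naturality_apply g.op x
  let s : Cocone (Dg ⋙ i) :=
    { pt := M'
      ι :=
        { app := fun k => φ.app (op (Dg.obj k)) (ι.app k)
          naturality := fun k l f => by
            change i.map (Dg.map f) ≫ φ.app (op (Dg.obj l)) (ι.app l) = _ ≫ 𝟙 M'
            refine ((nat (Dg.map f) (ι.app l)).symm.trans ?_).trans (Category.comp_id _).symm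
            exact congrArg (fun x => φ.app (op (Dg.obj k)) x) ((ι.naturality f).trans (Category.comp_id _)) } }
  refine ⟨hc.desc s, NatTrans.ext (funext fun a => ?_)⟩
  ext (x : i.obj a.unop ⟶ M)
  haveI := hi.fp a.unop
  obtain ⟨k, p, hp⟩ := IsFinitelyPresentable.exists_hom_of_isColimit hc x
  obtain ⟨g, rfl⟩ := i.map_surjective p
  change x ≫ hc.desc s = φ.app a x
  have h1 : i.map g ≫ ι.app k = x := hp
  rw [← h1, Category.assoc]
  have h2 : ι.app k ≫ hc.desc s = φ.app (op (Dg.obj k)) (ι.app k) := hc.fac s k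
  rw [h2, ← nat]⟩

/-- the image of `N i` is contained in the image of `N j` -/
lemma essImage_le (i : A ⥤ C) [i.Full] [i.Faithful] (j : A ⥤ D) [j.Full] [j.Faithful]
    [HasFilteredColimitsOfSize.{u, u} D] (hi : IsAcc i) (hj : IsAcc j) (M : C) :
    (N j).essImage ((N i).obj M) := by
  obtain ⟨J, _, _, Dg, ι, ⟨hc⟩⟩ := hi.pres M
  haveI := preservesColimit_N hi (Dg ⋙ i)
  haveI := preservesColimit_N hj (Dg ⋙ j)
  haveI : HasColimitsOfShape J D := HasFilteredColimitsOfSize.HasColimitsOfShape J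
  let h1 := isColimitOfPreserves (N i) hc
  let h2 := isColimitOfPreserves (N j) (colimit.isColimit (Dg ⋙ j))
  let w : (Dg ⋙ i) ⋙ N i ≅ (Dg ⋙ j) ⋙ N j :=
    Functor.associator _ _ _ ≪≫ Functor.isoWhiskerLeft Dg (compN i ≪≫ (compN j).symm) ≪≫
      (Functor.associator _ _ _).symm
  exact ⟨_, ⟨(h1.coconePointsIsoOfNatIso h2 w).symm⟩⟩

/-- the comparison equivalence -/
theorem exists_equiv (i : A ⥤ C) [i.Full] [i.Faithful] (j : A ⥤ D) [j.Full] [j.Faithful]
    [HasFilteredColimitsOfSize.{u, u} C] [HasFilteredColimitsOfSize.{u, u} D]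
    (hi : IsAcc i) (hj : IsAcc j) :
    ∃ e : C ≌ D, Nonempty (i ⋙ e.functor ≅ j) := by
  haveI := faithful_N hi
  haveI := full_N hi
  haveI := faithful_N hj
  haveI := full_N hj
  let E : C ⥤ D := Functor.essImage.liftFunctor (N i) (N j) (essImage_le i j hi hj)
  let eE : E ⋙ N j ≅ N i := Functor.essImage.liftFunctorCompIso (N i) (N j) _
  haveI : E.Faithful := Functor.Faithful.of_comp_iso eE
  haveI : E.Full := Functor.Full.of_comp_faithful_iso eE
  haveI : E.EssSurj := ⟨fun M => by
    obtain ⟨M₀, ⟨e⟩⟩ := essImage_le j i hj hi M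
    exact ⟨M₀, ⟨(N j).preimageIso (eE.app M₀ ≪≫ e)⟩⟩⟩
  haveI : E.IsEquivalence := { }
  exact ⟨E.asEquivalence, ⟨Functor.fullyFaithfulCancelRight (N j)
    (Functor.associator _ _ _ ≪≫ Functor.isoWhiskerLeft i eE ≪≫ compN i ≪≫ (compN j).symm)⟩⟩

/-- transporting the generating category along an equivalence -/
lemma IsAcc.comp_equivalence {A' : Type u₁} [Category.{u} A'] (hi : IsAcc i) (F : A' ≌ A) :
    IsAcc (F.functor ⋙ i) where
  fp a := hi.fp (F.functor.obj a)
  pres M := by
    obtain ⟨J, _, _, Dg, ι, ⟨hc⟩⟩ := hi.pres M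
    let e : (Dg ⋙ F.inverse) ⋙ F.functor ⋙ i ≅ Dg ⋙ i :=
      Functor.isoWhiskerLeft Dg ((Functor.associator _ _ _).symm ≪≫
        Functor.isoWhiskerRight F.counitIso i ≪≫ i.leftUnitor)
    exact ⟨J, inferInstance, inferInstance, Dg ⋙ F.inverse, e.hom ≫ ι,
      ⟨(IsColimit.precomposeHomEquiv e (Cocone.mk M ι)).symm hc⟩⟩

end Groth.Agent.DenseExt
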