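/-
`QCoh X` is finitely accessible over `Coh X` for a Noetherian scheme `X`.
-/
import Groth.Agent.DenseExt.Basic
import Groth.Agent.S2214
import Groth.Agent.QC.FiniteType
import Groth.Agent.QCGen.Basic
import Groth.Prelude

set_option autoImplicit false
set_option linter.style.haveILetI false
set_option backward.isDefEq.respectTransparency false
set_option backward.isDefEq.respectTransparency.types false

universe u

namespace Groth.Agent.DenseExt

open CategoryTheory Limits AlgebraicGeometry

variable (X : Scheme.{u})

/-- the inclusion of coherent modules in quasi-coherent modules -/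
abbrev ιC : ObjectProperty.FullSubcategory (fun M : X.Modules => Coh.IsCoh M) ⥤ QCohCat.QCoh X :=
  ObjectProperty.ιOfLE (P := (fun M : X.Modules => Coh.IsCoh M)) (P' := QCohCat.isQCoh X) (fun _ h => h.1)

lemma isAcc [IsNoetherian X] : IsAcc (ιC X) where
  fp a := by
    haveI : a.obj.IsQuasicoherent := a.property.1
    haveI : ((ιC X).obj a).obj.IsQuasicoherent := a.property.1
    exact Groth.Agent.S2214.presentable_of_isFP (hF := QC.isFP_of_isQCoh_of_isFT a.property.2) ((ιC X).obj a)
  pres M := by
    haveI : M.obj.IsQuasicoherent := M.property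
    obtain ⟨X₀, h, _, _, _, _⟩ := FPExt.exists_affineHom_noetherian X
    obtain ⟨hc⟩ := FPExt.nonempty_isColimit_pairSys h M.obj
    have hD : ∀ p, CohB1.IsFP ((FPExt.pairSys h M.obj).obj p) := FPExt.isFP_pairSys h M.obj
    have hP : ∀ p, Coh.IsCoh ((FPExt.pairSys h M.obj).obj p) := fun p => by
      haveI := hD p
      exact ⟨(inferInstance : ((FPExt.pairSys h M.obj).obj p).IsQuasicoherent), ModDesc.isFT_of_isFP (hD p)⟩
    let D := ObjectProperty.lift (fun N : X.Modules => Coh.IsCoh N) (FPExt.pairSys h M.obj) hP
    let ι : D ⋙ ιC X ⟶ (Functor.const _).obj M :=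
      { app := fun p => ObjectProperty.homMk ((FPExt.pairMap h M.obj).app p)
        naturality := fun p q f => ObjectProperty.hom_ext _ ((FPExt.pairMap h M.obj).naturality f) }
    exact ⟨_, inferInstance, inferInstance, D, ι, ⟨isColimitOfReflects (QCohCat.isQCoh X).ι hc⟩⟩

instance : HasFilteredColimitsOfSize.{u, u} (QCohCat.QCoh X) where
  HasColimitsOfShape _ _ _ := inferInstance

end Groth.Agent.DenseExt
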